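import Groth.Agent.SepDegEqLib.Local
import Groth.Agent.FinCondEasy.Components

/-!
# Geometric points and degree over a locally Noetherian irreducible base
-/

set_option autoImplicit false
set_option backward.isDefEq.respectTransparency false
set_option linter.style.haveILetI false

universe u

open CategoryTheory CategoryTheory.Limits AlgebraicGeometry IsLocalRing

namespace Groth.Agent.SepDegEqLib

open EtaleSplit GeomPtsCountLib

variable {X Y : Scheme.{u}} (f : X ⟶ Y)

theorem card_pullback_geomPt [LocallyQuasiFinite f] [LocallyOfFiniteType f] [QuasiCompact f] (y : Y) :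
    Nat.card ↥(pullback f (Spec.map (CommRingCat.ofHom (algebraMap (Y.residueField y)
      (AlgebraicClosure (Y.residueField y)))) ≫ Y.fromSpecResidueField y)) =
      ∑ x ∈ (f.finite_preimage_singleton y).toFinset, EGA4loc.residueSepDegree f x := by
  let Ω := AlgebraicClosure (Y.residueField y)
  let z := geomPt y
  show Nat.card ↥(pullback f z) = _
  haveI : LocallyQuasiFinite (pullback.snd f z) := MorphismProperty.pullback_snd _ _ inferInstance
  haveI : DiscreteTopology ↥(pullback f z) := by
    have h1 := (pullback.snd f z).isDiscrete_preimage_singleton (closedPoint Ω)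
    rw [show (pullback.snd f z) ⁻¹' {closedPoint Ω} = Set.univ from
      Set.eq_univ_of_forall fun a => Subsingleton.elim (α := ↥(Spec (CommRingCat.of Ω))) _ _] at h1
    exact isDiscrete_univ_iff.1 h1
  have h := (congrArg Prod.snd (GenIrredLib.counts_eq_nGeom f Ω z y (pt_geomPt y))).trans
    (nGeomConnComp_eq_sum f y)
  change ENat.card (_root_.ConnectedComponents ↥(pullback f z)) = _ at h
  rw [card_connectedComponents_of_discrete] at h
  exact (congrArg ENat.toNat h).trans (ENat.toNat_coe _)

theorem finrank_genericFibre [LocallyQuasiFinite f] [LocallyOfFiniteType f] [QuasiCompact f] (v : Y)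
    (hv : ∀ x : X, f x = v → IsField (X.presheaf.stalk x)) :
    letI := (((pullback.snd f (Y.fromSpecResidueField v)).appTop).hom.comp
      (Scheme.ΓSpecIso (Y.residueField v)).inv.hom).toAlgebra
    Module.finrank (Y.residueField v) Γ(pullback f (Y.fromSpecResidueField v), ⊤) =
      ∑ x ∈ (f.finite_preimage_singleton v).toFinset, EGA4loc.residueDegree f x := by
  classical
  let k := Y.residueField v
  let c : f.fiber v ⟶ Spec (CommRingCat.of k) := f.fiberToSpecResidueField v
  letI : Algebra k Γ(f.fiber v, ⊤) := (Coh.toGlobal c).toAlgebra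
  show Module.finrank k Γ(f.fiber v, ⊤) = _
  haveI : LocallyQuasiFinite c := MorphismProperty.pullback_snd (P := @LocallyQuasiFinite) _ _ inferInstance
  haveI : LocallyOfFiniteType c := MorphismProperty.pullback_snd (P := @LocallyOfFiniteType) _ _ inferInstance
  haveI : QuasiCompact c := MorphismProperty.pullback_snd (P := @QuasiCompact) _ _ inferInstance
  haveI : IsFinite c := IsFinite.of_locallyQuasiFinite c
  haveI : IsAffine (f.fiber v) := isAffine_of_isAffineHom c
  letI : (f.fiber v).Over (Spec (CommRingCat.of k)) := ⟨c⟩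
  haveI : Module.Finite k Γ(f.fiber v, ⊤) :=
    RingHom.finite_algebraMap.1 ((IsFinite.finite_app c ⊤ (isAffineOpen_top _)).comp
      (RingHom.Finite.of_surjective _ (Scheme.ΓSpecIso (CommRingCat.of k)).commRingCatIsoToRingEquiv.symm.surjective))
  haveI : IsArtinianRing Γ(f.fiber v, ⊤) := isArtinian_of_tower k inferInstance
  haveI := Fintype.ofFinite (PrimeSpectrum Γ(f.fiber v, ⊤))
  let hU := isAffineOpen_top (f.fiber v)
  let e₁ : f.fiber v ≃ PrimeSpectrum Γ(f.fiber v, ⊤) :=
    (Equiv.Set.univ (f.fiber v)).symm.trans hU.isoSpec.hom.homeomorph.toEquiv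
  letI : Fintype ↥(f.fiber v) := Fintype.ofEquiv _ e₁.symm
  have hpt : ∀ z : f.fiber v, f (f.fiberι v z) = v := fun z => by
    have : f.fiberι v z ∈ f ⁻¹' {v} := by rw [← f.range_fiberι v]; exact ⟨z, rfl⟩
    exact this
  have hloc : ∀ z : f.fiber v, Module.finrank k (Localization.AtPrime (e₁ z).asIdeal) =
      f.residueDegree (f.fiberι v z) := by
    intro z
    letI : Algebra Γ(f.fiber v, ⊤) ((f.fiber v).presheaf.stalk z) :=
      TopCat.Presheaf.algebra_section_stalk _ (⟨z, trivial⟩ : (⊤ : (f.fiber v).Opens))
    haveI : IsLocalization.AtPrime ((f.fiber v).presheaf.stalk z) (e₁ z).asIdeal :=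
      hU.isLocalization_stalk ⟨z, trivial⟩
    letI : Algebra k ((f.fiber v).presheaf.stalk z) :=
      (((f.fiber v).presheaf.germ ⊤ z trivial).hom.comp (Coh.toGlobal c)).toAlgebra
    haveI : IsScalarTower k Γ(f.fiber v, ⊤) ((f.fiber v).presheaf.stalk z) :=
      IsScalarTower.of_algebraMap_eq fun a => rfl
    let eA : Localization.AtPrime (e₁ z).asIdeal ≃ₐ[Γ(f.fiber v, ⊤)] (f.fiber v).presheaf.stalk z :=
      IsLocalization.algEquiv (e₁ z).asIdeal.primeCompl _ _
    rw [(eA.restrictScalars k).toLinearEquiv.finrank_eq]
    haveI : Module.Finite k ((f.fiber v).presheaf.stalk z) := by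
      refine Module.Finite.of_surjective (Algebra.algHom k Γ(f.fiber v, ⊤) _).toLinearMap ?_
      exact IsArtinianRing.localization_surjective (e₁ z).asIdeal.primeCompl _
    rw [CycLib.finrank_eq_length_mul k (R := (f.fiber v).presheaf.stalk z) ((f.fiber v).presheaf.stalk z)]
    have hF : IsField ((f.fiber v).presheaf.stalk z) := by
      have hX := hv (f.fiberι v z) (hpt z)
      letI := hX.toField
      exact (RingEquiv.ofBijective ((f.fiberι v).stalkMap z).hom
        ⟨((f.fiberι v).stalkMap z).hom.injective, FlatLocus.fiberι_stalkMap_surjective f v z⟩).symm.toMulEquiv.isField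
          (Field.toIsField _)
    have h1 : Module.length ((f.fiber v).presheaf.stalk z) ((f.fiber v).presheaf.stalk z) = 1 := by
      haveI : IsSimpleModule ((f.fiber v).presheaf.stalk z) ((f.fiber v).presheaf.stalk z) :=
        letI := hF.toField
        inferInstance
      exact Module.length_eq_one _ _
    rw [h1, show (1 : ℕ∞).toNat = 1 from rfl, one_mul]
    have h2 : (f.fiberι v ≫ f).residueDegree z = (c ≫ Y.fromSpecResidueField v).residueDegree z :=
      congrArg (fun g : f.fiber v ⟶ Y => g.residueDegree z) pullback.condition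
    rw [residueDegree_comp', residueDegree_comp', residueDegree_of_isPreimmersion (f.fiberι v),
      residueDegree_of_isPreimmersion (Y.fromSpecResidueField v), mul_one, one_mul] at h2
    rw [h2]
    exact (CycLib.residueDegree_eq z).symm
  haveI : Finite {x : X // f x = v} := ((f.finite_preimage_singleton v).to_subtype : Finite ↑(f ⁻¹' {v}))
  haveI := Fintype.ofFinite {x : X // f x = v}
  rw [IsArtinianRing.finrank_eq_sum_primeSpectrum, ← e₁.sum_comp,
    Finset.sum_subtype (f.finite_preimage_singleton v).toFinset (p := fun x => f x = v)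
      (fun x => by rw [Set.Finite.mem_toFinset]; rfl)]
  let e₂ : f.fiber v ≃ {u : X // f u = v} := (f.fiberHomeo v).toEquiv
  exact Fintype.sum_equiv e₂ _ _ fun z => hloc z

end Groth.Agent.SepDegEqLib
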